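import Groth.Agent.EpsPush13.Cover
import Mathlib.CategoryTheory.Sites.LocallyBijective

/-!
# Direct images commute with pullback from the étale to the pro-étale site
-/

set_option autoImplicit false
set_option backward.isDefEq.respectTransparency false
set_option backward.isDefEq.respectTransparency.types false
set_option linter.style.haveILetI false

noncomputable section

universe u

open CategoryTheory CategoryTheory.Limits AlgebraicGeometry Opposite MorphismProperty

namespace Groth.Agent.EpsPush13

open ProEtLib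

variable {X Y : Scheme.{u}} [ProEtS.EpsCont X] [ProEtS.EpsCont Y] (f : X ⟶ Y) [ProEtS.PCont f]

/-- the comparison on the etale site -/
def compareEt : EtCoh.push f ⟶ ProEtS.epsPull X ⋙ ProEtS.pushP f ⋙ ProEtS.epsPush Y where
  app F := ⟨{ app := fun U => AddCommGrpCat.ofHom (Pres.unitAt F ((EtCoh.bc f).obj U.unop))
              naturality := fun U V g => ConcreteCategory.hom_ext _ _ fun y =>
                Pres.unitAt_map F ((EtCoh.bc f).map g.unop) y }⟩
  naturality F F' φ := Sheaf.hom_ext (NatTrans.ext (funext fun U =>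
    congrArg (fun m => m.hom.app (op ((EtCoh.bc f).obj U.unop))) ((ProEtS.epsAdj X).unit.naturality φ)))

/-- the comparison map -/
def compare : EtCoh.push f ⋙ ProEtS.epsPull Y ⟶ ProEtS.epsPull X ⋙ ProEtS.pushP f where
  app F := ((ProEtS.epsAdj Y).homEquiv _ _).symm ((compareEt f).app F)
  naturality F F' φ := by
    refine ((ProEtS.epsAdj Y).homEquiv_naturality_left_symm _ _).symm.trans ?_
    refine Eq.trans ?_ ((ProEtS.epsAdj Y).homEquiv_naturality_right_symm _ _)
    exact congrArg _ ((compareEt f).naturality φ)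

theorem compare_unitAt (F : EtCoh.Ab X) (U : Y.Etale) (y : F.obj.obj (op ((EtCoh.bc f).obj U))) :
    ((compare f).app F).hom.app (op ((ProEtS.eps Y).obj U)) (Pres.unitAt ((EtCoh.push f).obj F) U y) =
      Pres.unitAt F ((EtCoh.bc f).obj U) y := by
  have h : (ProEtS.epsAdj Y).unit.app ((EtCoh.push f).obj F) ≫ (ProEtS.epsPush Y).map ((compare f).app F) =
      (compareEt f).app F := by
    exact ((ProEtS.epsAdj Y).homEquiv_unit _ _ _).symm.trans (Equiv.apply_symm_apply _ _)
  exact ConcreteCategory.congr_hom (congrArg (fun m => m.hom.app (op U)) h) y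

variable [QuasiCompact f] [QuasiSeparated f]

theorem compare_sect (F : EtCoh.Ab X) {V : Y.ProEt} (Q : Pres V) (j : Q.J)
    (y : F.obj.obj (op ((EtCoh.bc f).obj (Q.D.obj j)))) :
    ((compare f).app F).hom.app (op V) (Q.sect ((EtCoh.push f).obj F) j y) = (Q.pullback f).sect F j y := by
  rw [Pres.sect_apply, Pres.sect_apply]
  refine (NatTrans.naturality_apply ((compare f).app F).hom (Q.π.app j).op _).trans ?_
  refine congrArg (fun t => ((ProEtS.pushP f).obj ((ProEtS.epsPull X).obj F)).obj.map (Q.π.app j).op t) ?_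
  exact compare_unitAt f F _ y

theorem compare_bijective (F : EtCoh.Ab X) {V : Y.ProEt} (Q : Pres V) :
    Function.Bijective (((compare f).app F).hom.app (op V)) := by
  refine ⟨(injective_iff_map_eq_zero _).2 fun t ht => ?_, fun t => ?_⟩
  · obtain ⟨j, y, rfl⟩ := Q.exists_sect ((EtCoh.push f).obj F) t
    obtain ⟨k, a, ha⟩ := (Q.pullback f).exists_sect_eq_zero F j y ((compare_sect f F Q j y).symm.trans ht)
    refine (Q.sect_map ((EtCoh.push f).obj F) a y).symm.trans ?_
    rw [show ((EtCoh.push f).obj F).obj.map (Q.D.map a).op y = 0 from ha, map_zero]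
  · obtain ⟨j, y, hy⟩ := (Q.pullback f).exists_sect F t
    exact ⟨Q.sect ((EtCoh.push f).obj F) j y, (compare_sect f F Q j y).trans hy⟩

theorem isIso_compare_app (F : EtCoh.Ab X) : IsIso ((compare f).app F) := by
  let φ : (ProEtS.epsPull Y).obj ((EtCoh.push f).obj F) ⟶ (ProEtS.pushP f).obj ((ProEtS.epsPull X).obj F) :=
    (compare f).app F
  let G₁ := (ProEtS.epsPull Y).obj ((EtCoh.push f).obj F)
  refine (Sheaf.isLocallyBijective_iff_isIso φ).1 ⟨⟨fun {T} x y hxy => ?_⟩, ⟨fun {T} s => ?_⟩⟩
  · obtain ⟨ι, V, g, hg, hV⟩ := exists_pres_cover T.unop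
    refine GrothendieckTopology.superset_covering _ ?_ hg
    refine (Sieve.generate_le_iff _ _).2 ?_
    intro S g' hS
    obtain ⟨k⟩ := hS
    refine (compare_bijective f F (hV k).2.some).1 ?_
    change φ.hom.app _ (G₁.obj.map (g k).op x) = φ.hom.app _ (G₁.obj.map (g k).op y)
    rw [NatTrans.naturality_apply, NatTrans.naturality_apply, hxy]
  · obtain ⟨ι, V, g, hg, hV⟩ := exists_pres_cover T
    refine GrothendieckTopology.superset_covering _ ?_ hg
    refine (Sieve.generate_le_iff _ _).2 ?_
    rintro _ _ ⟨k⟩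
    exact (compare_bijective f F (hV k).2.some).2 _

/-- direct images commute with pullback to the pro-etale site -/
def compareIso : EtCoh.push f ⋙ ProEtS.epsPull Y ≅ ProEtS.epsPull X ⋙ ProEtS.pushP f :=
  haveI := isIso_compare_app f
  haveI : IsIso (compare f) := NatIso.isIso_of_isIso_app _
  asIso (compare f)

end Groth.Agent.EpsPush13
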