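import Groth.Agent.EpsPush13.Pres
import Groth.Agent.ProEtLib.Ring
import Groth.Agent.WStrictLib.WEtaleCover

/-!
# Objects with presentations cover, and presentations pull back along qcqs morphisms
-/

set_option autoImplicit false
set_option backward.isDefEq.respectTransparency false
set_option backward.isDefEq.respectTransparency.types false
set_option linter.style.haveILetI false

noncomputable section

universe u

open CategoryTheory CategoryTheory.Limits AlgebraicGeometry Opposite MorphismProperty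

namespace Groth.Agent.EpsPush13

open ProEtLib ProStage

variable {X : Scheme.{u}}

instance {U V : X.Etale} (g : U ⟶ V) : Etale g.left := EtFound.etale_left g

/-- the presentation of a limit of affine stages over an affine etale scheme -/
def Pres.ofIsPro {U₀ : X.Etale} [IsAffine U₀.left] {W : X.ProEt} (w : W ⟶ (ProEtS.eps X).obj U₀)
    (h : IsPro (ovS w)) : Pres W :=
  haveI : ∀ i : StructuredArrow (ovS w) (toOv U₀.left), IsAffine ((toX U₀).obj i.right).left :=
    fun i => isAffine_toOv i.right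
  haveI : ∀ i : StructuredArrow (ovS w) (toOv U₀.left),
      CompactSpace ↥((StructuredArrow.proj (ovS w) (toOv U₀.left) ⋙ toX U₀).obj i).left :=
    fun i => inferInstanceAs (CompactSpace ↥((toX U₀).obj i.right).left)
  haveI : ∀ i : StructuredArrow (ovS w) (toOv U₀.left),
      QuasiSeparatedSpace ↥((StructuredArrow.proj (ovS w) (toOv U₀.left) ⋙ toX U₀).obj i).left :=
    fun i => inferInstanceAs (QuasiSeparatedSpace ↥((toX U₀).obj i.right).left)
  haveI : ∀ (i j : StructuredArrow (ovS w) (toOv U₀.left)) (a : i ⟶ j),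
      IsAffineHom ((StructuredArrow.proj (ovS w) (toOv U₀.left) ⋙ toX U₀).map a).left :=
    fun i j a => @isAffineHom_of_isAffine _ _ _ (isAffine_toOv i.right) (isAffine_toOv j.right)
  { J := StructuredArrow (ovS w) (toOv U₀.left)
    D := StructuredArrow.proj (ovS w) (toOv U₀.left) ⋙ toX U₀
    π :=
      { app := fun a => sMap a
        naturality := fun a b g => MorphismProperty.Over.Hom.ext ((stageCone (ovS w)).π.naturality g) }
    lim := h.isLimit.some }

/-- affine objects with presentations by affine etale schemes over an affine open cover -/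
theorem exists_pres_cover (T : X.ProEt) :
    ∃ (ι : Type u) (V : ι → X.ProEt) (g : ∀ k, V k ⟶ T),
      Sieve.generate (Presieve.ofArrows V g) ∈ Scheme.ProEt.topology X T ∧
        ∀ k, IsAffine (V k).left ∧ Nonempty (Pres (V k)) := by
  let κ := {p : T.left.Opens × X.Opens // IsAffineOpen p.1 ∧ IsAffineOpen p.2 ∧ p.1 ≤ T.hom ⁻¹ᵁ p.2}
  have key : ∀ p : κ, ∃ (V : X.ProEt) (g : V ⟶ opObj T p.1.1),
      Sieve.generate (Presieve.singleton g) ∈ Scheme.ProEt.topology X (opObj T p.1.1) ∧
        IsAffine V.left ∧ Nonempty (Pres V) := fun p => by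
    let O := p.1.2
    let P := p.1.1
    haveI : IsAffine (O : Scheme.{u}) := p.2.2.1
    haveI : IsAffine (P : Scheme.{u}) := p.2.1
    let U₀ : X.Etale := Scheme.Etale.mk O.ι
    haveI : IsAffine U₀.left := p.2.2.1
    haveI : WeaklyEtale T.hom := T.prop
    let q : (P : Scheme.{u}) ⟶ (O : Scheme.{u}) := T.hom.resLE O P p.2.2.2
    have hq : q ≫ O.ι = P.ι ≫ T.hom := Scheme.Hom.resLE_comp_ι _ _
    haveI : WeaklyEtale (q ≫ O.ι) := hq ▸ inferInstance
    haveI : WeaklyEtale q := MorphismProperty.of_postcomp (W := @WeaklyEtale) (W' := @WeaklyEtale) q O.ι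
      inferInstance inferInstance
    letI : Algebra Γ(O, ⊤) Γ(P, ⊤) := q.appTop.hom.toAlgebra
    haveI : Algebra.WeaklyEtale Γ(O, ⊤) Γ(P, ⊤) := by
      have hsq : Spec.map q.appTop = (P : Scheme.{u}).isoSpec.inv ≫ q ≫ (O : Scheme.{u}).isoSpec.hom := by
        rw [← Scheme.isoSpec_hom_naturality q, Iso.inv_hom_id_assoc]
      exact (weaklyEtale_spec_iff _).1 (by rw [hsq]; infer_instance)
    obtain ⟨B, _, _, _, _, hff, hPB, hOB⟩ := WStrictLib.exists_indEtale_cover (A := Γ(O, ⊤)) (B := Γ(P, ⊤))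
    haveI : Algebra.WeaklyEtale Γ(P, ⊤) B := S0736.result _ _ hPB
    haveI := weaklyEtale_spec Γ(P, ⊤) B
    haveI : AlgebraicGeometry.Surjective (Spec.map (CommRingCat.ofHom (algebraMap Γ(P, ⊤) B))) :=
      ⟨PrimeSpectrum.comap_surjective_of_faithfullyFlat⟩
    let b : Spec (CommRingCat.of B) ⟶ (P : Scheme.{u}) :=
      Spec.map (CommRingCat.ofHom (algebraMap Γ(P, ⊤) B)) ≫ (P : Scheme.{u}).isoSpec.inv
    let V : X.ProEt := Scheme.ProEt.mk (b ≫ (opObj T P).hom)
    let g : V ⟶ opObj T P := MorphismProperty.Over.homMk b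
    let w : V ⟶ (ProEtS.eps X).obj U₀ := MorphismProperty.Over.homMk (b ≫ q) (by
      change (b ≫ q) ≫ O.ι = b ≫ (opObj T P).hom
      rw [Category.assoc, hq]
      rfl)
    haveI hV : IsAffine V.left := inferInstanceAs (IsAffine (Spec (CommRingCat.of B)))
    refine ⟨V, g, @singleton_mem_topology _ _ _ g (inferInstanceAs (QuasiCompact b))
      (inferInstanceAs (AlgebraicGeometry.Surjective b)), hV, ⟨Pres.ofIsPro (U₀ := U₀) w ?_⟩⟩
    haveI : IsAffine (ovS (U₀ := U₀) w).left := hV
    refine isPro_of_isIndEtale ?_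
    let e : Γ(V.left, ⊤) ≃+* B := (Scheme.ΓSpecIso (CommRingCat.of B)).commRingCatIsoToRingEquiv
    have he : ∀ r, e ((b ≫ q).appTop r) = algebraMap Γ(O, ⊤) B r := fun r => by
      rw [IsScalarTower.algebraMap_apply Γ(O, ⊤) Γ(P, ⊤) B]
      have h2 : b.appTop ≫ (Scheme.ΓSpecIso (CommRingCat.of B)).hom =
          CommRingCat.ofHom (algebraMap Γ(P, ⊤) B) := by
        rw [Scheme.Hom.comp_appTop, Category.assoc, Scheme.ΓSpecIso_naturality]
        have h3 := congrArg (fun f : (P : Scheme.{u}) ⟶ P => f.appTop) (P : Scheme.{u}).isoSpec.hom_inv_id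
        simp only [Scheme.Hom.comp_appTop, Scheme.isoSpec_hom, Scheme.toSpecΓ_appTop] at h3
        exact (Category.assoc _ _ _).symm.trans ((congrArg (· ≫ _) h3).trans (Category.id_comp _))
      exact ConcreteCategory.congr_hom h2 (q.appTop r)
    letI : Algebra Γ(O, ⊤) Γ(V.left, ⊤) := (b ≫ q).appTop.hom.toAlgebra
    change EtPBC.IsIndEtale Γ(O, ⊤) Γ(V.left, ⊤)
    let e' : Γ(V.left, ⊤) ≃ₐ[Γ(O, ⊤)] B := AlgEquiv.ofRingEquiv (f := e) he
    refine IndEtLib.isIndEtale_of_factor fun Q _ _ _ φ => ?_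
    obtain ⟨Y, hY, ⟨eY⟩⟩ := IndEtLib.exists_sys hOB
    obtain ⟨j, ψ, hψ⟩ := Y.exists_lift Q (eY.symm.toAlgHom.comp (e'.toAlgHom.comp φ))
    refine ⟨Y.A j, inferInstance, inferInstance, hY j, ψ, e'.symm.toAlgHom.comp (eY.toAlgHom.comp (Y.ι j)),
      AlgHom.ext fun q => ?_⟩
    simp only [AlgHom.comp_apply, AlgEquiv.toAlgHom_apply]
    rw [show Y.ι j (ψ q) = eY.symm (e' (φ q)) from AlgHom.congr_fun hψ q]
    simp
  choose V g hg hV using key
  refine ⟨κ, V, fun p => g p ≫ opHom T p.1.1, mem_topology_of_family _ _ _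
    (opens_mem_topology T (fun p : κ => p.1.1) fun x => ?_) fun p => ?_, hV⟩
  · obtain ⟨O, hO, hxO, -⟩ := exists_isAffineOpen_mem_and_subset (U := (⊤ : X.Opens)) (x := T.hom.base x) trivial
    obtain ⟨P, hP, hxP, hPO⟩ := exists_isAffineOpen_mem_and_subset (U := T.hom ⁻¹ᵁ O) (x := x) hxO
    exact ⟨⟨⟨P, O⟩, hP, hO, hPO⟩, hxP⟩
  · refine GrothendieckTopology.superset_covering _ ?_ (hg p)
    rintro Y f ⟨_, a, _, ⟨⟩, rfl⟩
    exact ⟨_, a, _, Presieve.ofArrows.mk (f := fun p : κ => g p ≫ opHom T p.1.1) p, (Category.assoc _ _ _).symm⟩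

namespace Pres

variable {W : X.ProEt}

/-- a presented affine with an affine stage is a limit of affine stages over it -/
theorem isPro (P : Pres W) [IsAffine W.left] (i : P.J) [IsAffine (P.D.obj i).left] :
    IsPro (ovS (U₀ := P.D.obj i) (P.π.app i)) := by
  let G : Over i ⥤ CategoryTheory.Over (P.D.obj i).left :=
    { obj := fun k => CategoryTheory.Over.mk (P.D.map k.hom).left
      map := fun {k l} a => CategoryTheory.Over.homMk (P.D.map a.left).left
        (congrArg (fun m : P.D.obj k.left ⟶ P.D.obj i => m.left)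
          ((P.D.map_comp _ _).symm.trans (congrArg P.D.map (CategoryTheory.Over.w a))))
      map_id := fun k => CategoryTheory.Over.OverMorphism.ext
        (congrArg (fun m : P.D.obj k.left ⟶ P.D.obj k.left => m.left) (P.D.map_id _))
      map_comp := fun {k l m} a b => CategoryTheory.Over.OverMorphism.ext
        (congrArg (fun h : P.D.obj k.left ⟶ P.D.obj m.left => h.left) (P.D.map_comp a.left b.left)) }
  haveI : ∀ k, IsAffine (G.obj k).left := fun k => by
    haveI := P.aff _ _ k.hom
    exact isAffine_of_isAffineHom (P.D.map k.hom).left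
  haveI : ∀ k, Etale (G.obj k).hom := fun k => inferInstanceAs (Etale (P.D.map k.hom).left)
  haveI : IsAffine (ovS (U₀ := P.D.obj i) (P.π.app i)).left := ‹IsAffine W.left›
  let π : (Functor.const (Over i)).obj (ovS (U₀ := P.D.obj i) (P.π.app i)) ⟶ G :=
    { app := fun k => CategoryTheory.Over.homMk (P.π.app k.left).left
        (congrArg (fun m : W ⟶ (ProEtS.eps X).obj (P.D.obj i) => m.left) (P.w k.hom))
      naturality := fun k l a => CategoryTheory.Over.OverMorphism.ext
        (congrArg (fun m : W ⟶ (ProEtS.eps X).obj (P.D.obj l.left) => m.left) (P.π.naturality a.left)) }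
  exact isPro_of_isLimit G π ((Functor.Initial.isLimitWhiskerEquiv (CategoryTheory.Over.forget i)
    ((Scheme.ProEt.forget X ⋙ CategoryTheory.Over.forget X).mapCone (Cone.mk W P.π))).symm P.lim)

variable {Y : Scheme.{u}} (f : X ⟶ Y) [QuasiCompact f] [QuasiSeparated f]

/-- base change of etale schemes commutes with the inclusion into the pro-etale site -/
def bcIso (U : Y.Etale) : (ProEtS.eps X).obj ((EtCoh.bc f).obj U) ≅ (ProEtS.bcP f).obj ((ProEtS.eps Y).obj U) :=
  Iso.refl _

omit [QuasiCompact f] [QuasiSeparated f] in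
theorem bcIso_natural {U V : Y.Etale} (g : U ⟶ V) :
    (ProEtS.eps X).map ((EtCoh.bc f).map g) = (ProEtS.bcP f).map ((ProEtS.eps Y).map g) := rfl

/-- presentations pull back -/
def pullback {V : Y.ProEt} (Q : Pres V) : Pres ((ProEtS.bcP f).obj V) :=
  haveI : ∀ (i j : Q.J) (a : i ⟶ j), IsAffineHom ((Q.D ⋙ EtCoh.bc f).map a).left := fun i j a => by
    haveI := Q.aff i j a
    exact MorphismProperty.of_isPullback (P := @IsAffineHom) (EtCoh.isPullback_bc_map f (Q.D.map a)).flip ‹_›
  haveI : ∀ i, CompactSpace ↥((Q.D ⋙ EtCoh.bc f).obj i).left := fun i => by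
    haveI : CompactSpace ↥((𝟭 Scheme.{u}).obj (Q.D.obj i).left) := Q.qc i
    haveI : QuasiCompact (Limits.pullback.fst (Q.D.obj i).hom f) :=
      MorphismProperty.pullback_fst _ _ ‹QuasiCompact f›
    exact QuasiCompact.compactSpace_of_compactSpace (Limits.pullback.fst (Q.D.obj i).hom f)
  haveI : ∀ i, QuasiSeparatedSpace ↥((Q.D ⋙ EtCoh.bc f).obj i).left := fun i => by
    haveI : QuasiSeparatedSpace ↥((𝟭 Scheme.{u}).obj (Q.D.obj i).left) := Q.qsep i
    haveI : QuasiSeparated (Limits.pullback.fst (Q.D.obj i).hom f) :=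
      MorphismProperty.pullback_fst _ _ ‹QuasiSeparated f›
    exact quasiSeparatedSpace_of_quasiSeparated (Limits.pullback.fst (Q.D.obj i).hom f)
  { J := Q.J
    D := Q.D ⋙ EtCoh.bc f
    π :=
      { app := fun j => (ProEtS.bcP f).map (Q.π.app j)
        naturality := fun j k a => (Category.id_comp _).trans ((congrArg (ProEtS.bcP f).map (Q.w a).symm).trans
          ((ProEtS.bcP f).map_comp _ _)) }
    lim :=
      haveI : IsConnected Q.J := IsCofiltered.isConnected Q.J
      let c₀ : Cone ((Q.D ⋙ ProEtS.eps Y) ⋙ Scheme.ProEt.forget Y) :=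
        (Scheme.ProEt.forget Y).mapCone (Cone.mk V Q.π)
      let h₀ : IsLimit c₀ := isLimitOfReflects (CategoryTheory.Over.forget Y) Q.lim
      isLimitOfPreserves (CategoryTheory.Over.pullback f ⋙ CategoryTheory.Over.forget X) h₀ }

end Pres

end Groth.Agent.EpsPush13
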