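import Groth.Agent.EpsPush13.Compare
import Groth.Agent.ProEtLib.EpsClass
import Groth.Agent.EtLC12.EtZarCompare

/-!
# Pulled back injective sheaves are acyclic for direct images along qcqs morphisms
-/

set_option autoImplicit false
set_option backward.isDefEq.respectTransparency false
set_option backward.isDefEq.respectTransparency.types false
set_option linter.style.haveILetI false

noncomputable section

universe u

open CategoryTheory CategoryTheory.Limits AlgebraicGeometry Opposite MorphismProperty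

namespace Groth.Agent.EpsPush13

open ProEtLib

variable {X : Scheme.{u}}

instance {U : X.ProEt} (O : U.left.Opens) : Mono (opHom U O) :=
  ⟨fun _ _ h => MorphismProperty.Over.Hom.ext ((cancel_mono O.ι).1 (congrArg (fun e => e.left) h))⟩

/-- sections extend from quasi-compact opens of presented objects -/
def Flasque (M : ProEtS.AbP X) : Prop :=
  ∀ (W : X.ProEt) (P : Pres W) (i : P.J) (O : (P.D.obj i).left.Opens), IsCompact (O : Set (P.D.obj i).left) →
    Function.Surjective (M.obj.map (opHom W ((P.π.app i).left ⁻¹ᵁ O)).op)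

theorem flasque_injective (I : ProEtS.AbP X) [Injective I] : Flasque I := by
  intro W P i O _
  haveI : Injective I.obj := Injective.injective_of_adjoint (sheafificationAdjunction _ _) I
  exact EtLC12.EtZarCompare.surjective_map_of_mono I.obj _

/-- inclusions of opens -/
def incl (W : X.ProEt) (A B : W.left.Opens) (h : ∀ z ∈ A, z ∈ B) : opObj W A ⟶ opObj W B :=
  MorphismProperty.Over.homMk (W.left.homOfLE (show A ≤ B from h)) (by
    change W.left.homOfLE (show A ≤ B from h) ≫ B.ι ≫ W.hom = A.ι ≫ W.hom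
    rw [Scheme.homOfLE_ι_assoc])

theorem incl_opHom (W : X.ProEt) (A B : W.left.Opens) (h : ∀ z ∈ A, z ∈ B) :
    incl W A B h ≫ opHom W B = opHom W A :=
  MorphismProperty.Over.Hom.ext (Scheme.homOfLE_ι W.left (show A ≤ B from h))

theorem exists_factor_opHom {W Z : X.ProEt} (p : Z ⟶ W) (A : W.left.Opens) (h : ∀ z, p.left.base z ∈ A) :
    ∃ r : Z ⟶ opObj W A, r ≫ opHom W A = p := by
  have hr : Set.range p.left.base ⊆ Set.range A.ι.base := by
    rintro _ ⟨z, rfl⟩
    rw [Scheme.Opens.range_ι]
    exact h z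
  exact ⟨MorphismProperty.Over.homMk (IsOpenImmersion.lift A.ι p.left hr) (by
      change IsOpenImmersion.lift A.ι p.left hr ≫ A.ι ≫ W.hom = Z.hom
      rw [IsOpenImmersion.lift_fac_assoc]
      exact MorphismProperty.Over.w p),
    MorphismProperty.Over.Hom.ext (IsOpenImmersion.lift_fac _ _ _)⟩

theorem mem_topology_two {N U V : X.ProEt} (a : U ⟶ N) (b : V ⟶ N) [IsOpenImmersion a.left]
    [IsOpenImmersion b.left] (h : ∀ z, z ∈ Set.range a.left.base ∨ z ∈ Set.range b.left.base) :
    Sieve.generate (Presieve.ofArrows (fun k : Bool => cond k U V)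
      (fun k => Bool.rec (motive := fun k => cond k U V ⟶ N) b a k)) ∈ Scheme.ProEt.topology X N := by
  refine mem_topology_of_etale _ _ (fun k => ?_) (fun z => ?_) fun k => Sieve.le_generate _ _ _ ⟨k⟩
  · cases k
    · exact inferInstanceAs (Etale b.left)
    · exact inferInstanceAs (Etale a.left)
  · rcases h z with hz | hz
    exacts [⟨true, hz⟩, ⟨false, hz⟩]

theorem exists_glue_two (M : ProEtS.AbP X) {N U V : X.ProEt} (a : U ⟶ N) (b : V ⟶ N) [IsOpenImmersion a.left]
    [IsOpenImmersion b.left] (h : ∀ z, z ∈ Set.range a.left.base ∨ z ∈ Set.range b.left.base)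
    (x : M.obj.obj (op U)) (y : M.obj.obj (op V))
    (hc : ∀ (Z : X.ProEt) (p : Z ⟶ U) (q : Z ⟶ V), p ≫ a = q ≫ b → M.obj.map p.op x = M.obj.map q.op y) :
    ∃ t, M.obj.map a.op t = x ∧ M.obj.map b.op t = y := by
  have hsh : Presieve.IsSheafFor (M.obj ⋙ CategoryTheory.forget AddCommGrpCat.{u + 1})
      (Presieve.ofArrows (fun k : Bool => cond k U V)
        (fun k => Bool.rec (motive := fun k => cond k U V ⟶ N) b a k)) := by
    rw [Presieve.isSheafFor_iff_generate]
    exact (isSheaf_iff_isSheaf_of_type _ _).1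
      ((sheafCompose _ (CategoryTheory.forget AddCommGrpCat.{u + 1})).obj M).property _ (mem_topology_two a b h)
  obtain ⟨t, ht, -⟩ := (Presieve.isSheafFor_arrows_iff _ _).1 hsh
    (fun k => Bool.rec (motive := fun k => M.obj.obj (op (cond k U V))) y x k) (fun k l Z p q hpq => by
      cases k <;> cases l
      · have : Mono b := ⟨fun _ _ h => MorphismProperty.Over.Hom.ext
          ((cancel_mono b.left).1 (congrArg (fun e => e.left) h))⟩
        rw [(cancel_mono b).1 hpq]
      · exact (hc Z q p hpq.symm).symm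
      · exact hc Z p q hpq
      · have : Mono a := ⟨fun _ _ h => MorphismProperty.Over.Hom.ext
          ((cancel_mono a.left).1 (congrArg (fun e => e.left) h))⟩
        rw [(cancel_mono a).1 hpq])
  exact ⟨t, ht true, ht false⟩

theorem eq_of_glue_two (M : ProEtS.AbP X) {N U V : X.ProEt} (a : U ⟶ N) (b : V ⟶ N) [IsOpenImmersion a.left]
    [IsOpenImmersion b.left] (h : ∀ z, z ∈ Set.range a.left.base ∨ z ∈ Set.range b.left.base)
    (s t : M.obj.obj (op N)) (h₁ : M.obj.map a.op s = M.obj.map a.op t) (h₂ : M.obj.map b.op s = M.obj.map b.op t) :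
    s = t := by
  refine M.2.isSeparated N _ (mem_topology_two a b h) s t ?_
  rintro d g ⟨_, r, _, ⟨k⟩, rfl⟩
  rw [op_comp, Functor.map_comp, ConcreteCategory.comp_apply, ConcreteCategory.comp_apply]
  cases k
  · exact congrArg _ h₂
  · exact congrArg _ h₁

instance isOpenImmersion_incl (W : X.ProEt) (A B : W.left.Opens) (h : ∀ z ∈ A, z ∈ B) :
    IsOpenImmersion (incl W A B h).left :=
  inferInstanceAs (IsOpenImmersion (W.left.homOfLE (show A ≤ B from h)))

variable [ProEtS.EpsCont X]

theorem flasque_epsPull_injective (I : EtCoh.Ab X) [Injective I] : Flasque ((ProEtS.epsPull X).obj I) := by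
  intro W P i O hO t
  haveI : Injective I.obj := Injective.injective_of_adjoint (sheafificationAdjunction _ _) I
  obtain ⟨k, y, hy⟩ := (P.open' i O hO).exists_sect I t
  let incl : (P.opensEt i O).obj k ⟶ P.D.obj k.left :=
    MorphismProperty.Over.homMk ((P.D.map k.hom).left ⁻¹ᵁ O).ι
  haveI : Mono incl := ⟨fun _ _ h => MorphismProperty.Over.Hom.ext
    ((cancel_mono ((P.D.map k.hom).left ⁻¹ᵁ O).ι).1 (congrArg (fun e => e.left) h))⟩
  obtain ⟨y', hy'⟩ := EtLC12.EtZarCompare.surjective_map_of_mono I.obj incl y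
  refine ⟨P.sect I k.left y', ?_⟩
  refine Eq.trans ?_ hy
  have hy'' : y = I.obj.map incl.op y' := hy'.symm
  rw [hy'', Pres.sect_apply, Pres.sect_apply]
  refine Eq.trans ?_ (congrArg (fun v => ((ProEtS.epsPull X).obj I).obj.map ((P.open' i O hO).π.app k).op v)
    (Pres.unitAt_map I incl y').symm)
  have hc : (P.open' i O hO).π.app k ≫ (ProEtS.eps X).map incl =
      opHom W ((P.π.app i).left ⁻¹ᵁ O) ≫ P.π.app k.left :=
    MorphismProperty.Over.Hom.ext (P.open'_π i O hO k incl.left rfl)
  refine ((ConcreteCategory.comp_apply _ _ _).symm.trans (ConcreteCategory.congr_hom ?_ _)).trans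
    (ConcreteCategory.comp_apply _ _ _)
  rw [← Functor.map_comp, ← Functor.map_comp, ← op_comp, ← op_comp, hc]

/-- no higher cohomology on presented objects, in elementary form -/
def Acyc (M : ProEtS.AbP X) : Prop := CechClass M ∧ Flasque M

theorem acyc_epsPull_injective (I : EtCoh.Ab X) [Injective I] : Acyc ((ProEtS.epsPull X).obj I) :=
  ⟨cechClass_epsPull_injective I, flasque_epsPull_injective I⟩

variable {S : ShortComplex (ProEtS.AbP X)}

theorem surjective_sections (hS : S.ShortExact) (h : Acyc S.X₁) {W : X.ProEt} (P : Pres W) :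
    Function.Surjective (S.g.hom.app (op W)) := by
  intro s
  obtain ⟨i⟩ := IsCofiltered.nonempty (C := P.J)
  let pre : (P.D.obj i).left.Opens → W.left.Opens := fun O => (P.π.app i).left ⁻¹ᵁ O
  let Q : (P.D.obj i).left.Opens → Prop := fun O =>
    ∃ t, S.g.hom.app (op (opObj W (pre O))) t = S.X₃.obj.map (opHom W (pre O)).op s
  have haff : ∀ U : (P.D.obj i).left.Opens, IsAffineOpen U → Q U := fun U hU => by
    let P' := P.open' i U hU.isCompact
    haveI : IsAffine (opObj W (pre U)).left := by
      let S' : P.J ⥤ Scheme.{u} := (P.D ⋙ ProEtS.eps X) ⋙ Scheme.ProEt.forget X ⋙ CategoryTheory.Over.forget X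
      haveI : ∀ {a b : P.J} (f : a ⟶ b), IsAffineHom (S'.map f) := fun {a b} f => P.aff a b f
      haveI : IsAffineHom (P.π.app i).left := isAffineHom_π_app S'
        ((Scheme.ProEt.forget X ⋙ CategoryTheory.Over.forget X).mapCone (Cone.mk W P.π)) P.lim i
      exact hU.preimage (P.π.app i).left
    let j : Over i := CategoryTheory.Over.mk (𝟙 i)
    haveI : IsAffine (P'.D.obj j).left := by
      haveI : IsAffineHom (P.D.map j.hom).left := P.aff _ _ j.hom
      exact hU.preimage (P.D.map j.hom).left
    obtain ⟨t, ht⟩ := surjective_of_cechClass hS h.1 (P'.isPro j) (S.X₃.obj.map (opHom W (pre U)).op s)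
    exact ⟨t, ht⟩
  have htop : Q ⊤ := by
    refine compact_open_induction_on (P := Q) ⊤ (isCompact_univ_iff.2 (P.qc i)) (haff ⊥ (isAffineOpen_bot _))
      fun O hO U hQO => ?_
    obtain ⟨a, ha⟩ := hQO
    obtain ⟨b, hb⟩ := haff U.1 U.2
    let A := pre O; let B := pre U.1; let C := pre (O ⊓ U.1); let N := pre (O ⊔ U.1)
    let cA : opObj W C ⟶ opObj W A := incl W C A fun z hz => hz.1
    let cB : opObj W C ⟶ opObj W B := incl W C B fun z hz => hz.2
    have hz0 : S.g.hom.app _ (S.X₂.obj.map cA.op a - S.X₂.obj.map cB.op b) = 0 := by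
      rw [map_sub, NatTrans.naturality_apply, NatTrans.naturality_apply, ha, hb,
        ← ConcreteCategory.comp_apply, ← ConcreteCategory.comp_apply, ← Functor.map_comp, ← Functor.map_comp,
        ← op_comp, ← op_comp, incl_opHom, incl_opHom, sub_self]
    obtain ⟨m, hm⟩ := sec_exact hS _ _ hz0
    haveI := P.qsep i
    obtain ⟨m', hm'⟩ := h.2 W P i (O ⊓ U.1) (hO.inter_of_isOpen U.2.isCompact O.2 U.1.2) m
    let b' := b + S.f.hom.app _ (S.X₁.obj.map (opHom W B).op m')
    have hb' : S.g.hom.app _ b' = S.X₃.obj.map (opHom W B).op s := by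
      simp only [b', map_add]
      rw [hb, ← ConcreteCategory.comp_apply, ← NatTrans.comp_app,
        show S.f.hom ≫ S.g.hom = 0 from congrArg (fun q : S.X₁ ⟶ S.X₃ => q.hom) S.zero]
      exact add_zero _
    have hab : S.X₂.obj.map cA.op a = S.X₂.obj.map cB.op b' := by
      simp only [b', map_add]
      rw [← NatTrans.naturality_apply, show S.X₁.obj.map cB.op (S.X₁.obj.map (opHom W B).op m') = m by
        rw [← ConcreteCategory.comp_apply, ← Functor.map_comp, ← op_comp, incl_opHom]
        exact hm', hm]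
      exact (add_sub_cancel _ _).symm
    let jA : opObj W A ⟶ opObj W N := incl W A N fun z hz => Or.inl hz
    let jB : opObj W B ⟶ opObj W N := incl W B N fun z hz => Or.inr hz
    have hcov : ∀ z : (opObj W N).left, z ∈ Set.range jA.left.base ∨ z ∈ Set.range jB.left.base := fun z => z.2.imp
      (fun hz => ⟨⟨_, hz⟩, Subtype.ext (Scheme.homOfLE_apply (show A ≤ N from fun z hz => Or.inl hz) _)⟩)
      (fun hz => ⟨⟨_, hz⟩, Subtype.ext (Scheme.homOfLE_apply (show B ≤ N from fun z hz => Or.inr hz) _)⟩)
    obtain ⟨t, htA, htB⟩ := exists_glue_two S.X₂ jA jB hcov a b' fun Z p q hpq => by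
        have hmem : ∀ z : Z.left, (p ≫ opHom W A).left.base z ∈ C := fun z => ⟨(p.left.base z).2, by
          have e : p ≫ opHom W A = q ≫ opHom W B := by
            rw [← incl_opHom W A N fun z hz => Or.inl hz, ← incl_opHom W B N fun z hz => Or.inr hz,
              ← Category.assoc, hpq, Category.assoc]
          rw [e]
          exact (q.left.base z).2⟩
        obtain ⟨r, hr⟩ := exists_factor_opHom (p ≫ opHom W A) C hmem
        have hp : r ≫ cA = p := by
          rw [← cancel_mono (opHom W A), Category.assoc, incl_opHom, hr]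
        have hq : r ≫ cB = q := by
          rw [← cancel_mono (opHom W B), Category.assoc, incl_opHom, hr,
            ← incl_opHom W A N fun z hz => Or.inl hz, ← incl_opHom W B N fun z hz => Or.inr hz,
            ← Category.assoc, hpq, Category.assoc]
        rw [← hp, ← hq, op_comp, op_comp, Functor.map_comp, Functor.map_comp, ConcreteCategory.comp_apply,
          ConcreteCategory.comp_apply, hab]
    refine ⟨t, eq_of_glue_two S.X₃ jA jB hcov _ _ ?_ ?_⟩
    · rw [← NatTrans.naturality_apply, htA, ha, ← ConcreteCategory.comp_apply, ← Functor.map_comp, ← op_comp,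
        incl_opHom]
    · rw [← NatTrans.naturality_apply, htB, hb', ← ConcreteCategory.comp_apply, ← Functor.map_comp, ← op_comp,
        incl_opHom]
  obtain ⟨t, ht⟩ := htop
  obtain ⟨r, hr⟩ := exists_factor_opHom (𝟙 W) (pre ⊤) fun z => trivial
  refine ⟨S.X₂.obj.map r.op t, ?_⟩
  rw [NatTrans.naturality_apply, ht, ← ConcreteCategory.comp_apply, ← Functor.map_comp, ← op_comp, hr, op_id,
    CategoryTheory.Functor.map_id, ConcreteCategory.id_apply]

theorem acyc_X₃ (hS : S.ShortExact) (h₁ : Acyc S.X₁) (hI : Injective S.X₂) : Acyc S.X₃ := by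
  refine ⟨cechClass_X₃ hS h₁.1 (@cechClass_injective X _ S.X₂ hI), fun W P i O hO s => ?_⟩
  obtain ⟨t, ht⟩ := surjective_sections hS h₁ (P.open' i O hO) s
  obtain ⟨t', ht'⟩ := @flasque_injective X S.X₂ hI W P i O hO t
  exact ⟨S.g.hom.app _ t', by rw [← NatTrans.naturality_apply, ht', ht]⟩

variable {Y : Scheme.{u}} (f : X ⟶ Y) [QuasiCompact f] [QuasiSeparated f] [ProEtS.PCont f]

theorem isZero_RpushP_of_acyc {M : ProEtS.AbP X} (hM : Acyc M) (q : ℕ) :
    IsZero ((ProEtS.RpushP f (q + 1)).obj M) := by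
  haveI : PreservesFiniteLimits (ProEtS.pushP f) :=
    haveI := (ProEtS.pullPushAdjP f).rightAdjoint_preservesLimits
    inferInstance
  refine SitePullUnit.isZero_rightDerived_of_class (ProEtS.pushP f) Acyc
    (fun S hS h hI => acyc_X₃ hS h hI) (fun S hS h _ => ?_) hM q
  refine (Sheaf.isLocallySurjective_iff_epi' _ _).1 ⟨fun {T} s => ?_⟩
  obtain ⟨ι, V, g, hg, hV⟩ := exists_pres_cover T
  refine GrothendieckTopology.superset_covering _ ?_ hg
  refine (Sieve.generate_le_iff _ _).2 ?_
  rintro _ _ ⟨k⟩
  exact surjective_sections hS h ((hV k).2.some.pullback f) _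

end Groth.Agent.EpsPush13
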