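import Groth.Agent.EpsLim13.Main
import Groth.Agent.ProEtLib.EpsVanish

/-!
# Limit presentations in the pro-étale site and sections of pulled back sheaves
-/

set_option autoImplicit false
set_option backward.isDefEq.respectTransparency false
set_option backward.isDefEq.respectTransparency.types false
set_option linter.style.haveILetI false

noncomputable section

universe u

open CategoryTheory CategoryTheory.Limits AlgebraicGeometry Opposite MorphismProperty

namespace Groth.Agent.EpsPush13

open ProEtLib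

variable {X : Scheme.{u}}

/-- a presentation as a limit of quasi-compact quasi-separated etale schemes with affine transition maps -/
structure Pres (W : X.ProEt) : Type (u + 1) where
  J : Type u
  [cat : SmallCategory J]
  [cof : IsCofiltered J]
  D : J ⥤ X.Etale
  [aff : ∀ (i j : J) (a : i ⟶ j), IsAffineHom (D.map a).left]
  [qc : ∀ i, CompactSpace ↥(D.obj i).left]
  [qsep : ∀ i, QuasiSeparatedSpace ↥(D.obj i).left]
  π : (Functor.const J).obj W ⟶ D ⋙ ProEtS.eps X
  lim : IsLimit ((Scheme.ProEt.forget X ⋙ CategoryTheory.Over.forget X).mapCone (Cone.mk W π))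

attribute [instance] Pres.cat Pres.cof Pres.aff Pres.qc Pres.qsep

namespace Pres

variable {W : X.ProEt} (P : Pres W)

instance (i j : P.J) (a : i ⟶ j) : IsAffineHom ((P.D ⋙ ProEtS.eps X).map a).left := P.aff i j a

instance (i : P.J) : CompactSpace ↥((P.D ⋙ ProEtS.eps X).obj i).left := P.qc i

instance (i : P.J) : QuasiSeparatedSpace ↥((P.D ⋙ ProEtS.eps X).obj i).left := P.qsep i

theorem w {i j : P.J} (a : i ⟶ j) : P.π.app i ≫ (ProEtS.eps X).map (P.D.map a) = P.π.app j :=
  ((P.π.naturality a).symm.trans (Category.id_comp _))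

variable [ProEtS.EpsCont X] (F : EtCoh.Ab X)

/-- the unit at an etale scheme -/
def unitAt (U : X.Etale) : F.obj.obj (op U) →+ ((ProEtS.epsPull X).obj F).obj.obj (op ((ProEtS.eps X).obj U)) :=
  (((ProEtS.epsAdj X).unit.app F).hom.app (op U)).hom

theorem unitAt_map {U V : X.Etale} (g : V ⟶ U) (y : F.obj.obj (op U)) :
    unitAt F V (F.obj.map g.op y) = ((ProEtS.epsPull X).obj F).obj.map ((ProEtS.eps X).map g).op (unitAt F U y) :=
  NatTrans.naturality_apply ((ProEtS.epsAdj X).unit.app F).hom g.op y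

theorem bijective_unitAt (U : X.Etale) : Function.Bijective (unitAt F U) := by
  haveI := isIso_unit_eps (X := X) F
  exact ConcreteCategory.bijective_of_isIso
    (((sheafToPresheaf _ _).mapIso (asIso ((ProEtS.epsAdj X).unit.app F))).app (op U)).hom

/-- the section over the limit of a section at a stage -/
def sect (j : P.J) : F.obj.obj (op (P.D.obj j)) →+ ((ProEtS.epsPull X).obj F).obj.obj (op W) :=
  (((ProEtS.epsPull X).obj F).obj.map (P.π.app j).op).hom.comp (unitAt F (P.D.obj j))

theorem sect_apply (j : P.J) (y : F.obj.obj (op (P.D.obj j))) :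
    P.sect F j y = ((ProEtS.epsPull X).obj F).obj.map (P.π.app j).op (unitAt F (P.D.obj j) y) := rfl

theorem nonempty_isColimit_sections :
    Nonempty (IsColimit (((ProEtS.epsPull X).obj F).obj.mapCocone (Cone.mk W P.π).op)) := by
  obtain ⟨h⟩ := EpsLim13.nonempty_isColimit (F := F) P.lim
  exact ⟨IsColimit.mapCoconeEquiv ((sheafToPresheaf _ _).mapIso ((epsPullIso (X := X)).app F).symm) h⟩

theorem sect_map {i j : P.J} (a : i ⟶ j) (y : F.obj.obj (op (P.D.obj j))) :
    P.sect F i (F.obj.map (P.D.map a).op y) = P.sect F j y := by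
  rw [sect_apply, sect_apply, unitAt_map, ← P.w a, op_comp, Functor.map_comp]
  rfl

theorem exists_sect (t : ((ProEtS.epsPull X).obj F).obj.obj (op W)) :
    ∃ (j : P.J) (y : F.obj.obj (op (P.D.obj j))), P.sect F j y = t := by
  obtain ⟨hc⟩ := P.nonempty_isColimit_sections F
  obtain ⟨⟨j⟩, s, hs⟩ := Concrete.isColimit_exists_rep _ hc t
  obtain ⟨y, hy⟩ := (bijective_unitAt F (P.D.obj j)).2 s
  exact ⟨j, y, by rw [sect_apply, hy]; exact hs⟩

theorem exists_sect_eq_zero (j : P.J) (y : F.obj.obj (op (P.D.obj j))) (hy : P.sect F j y = 0) :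
    ∃ (k : P.J) (a : k ⟶ j), F.obj.map (P.D.map a).op y = 0 := by
  obtain ⟨hc⟩ := P.nonempty_isColimit_sections F
  have h : (((ProEtS.epsPull X).obj F).obj.mapCocone (Cone.mk W P.π).op).ι.app (op j)
      (unitAt F (P.D.obj j) y) =
      (((ProEtS.epsPull X).obj F).obj.mapCocone (Cone.mk W P.π).op).ι.app (op j) 0 := by
    rw [map_zero]
    exact hy
  obtain ⟨⟨k⟩, f, g, hfg⟩ := Concrete.isColimit_exists_of_rep_eq _ hc _ _ h
  rw [map_zero] at hfg
  refine ⟨k, f.unop, (bijective_unitAt F (P.D.obj k)).1 ?_⟩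
  rw [unitAt_map, map_zero]
  exact hfg

/-- the presentation of the preimage of a quasi-compact open of a stage -/
def restrictCone (i : P.J) (O : (P.D.obj i).left.Opens) : X.ProEt :=
  opObj W ((P.π.app i).left ⁻¹ᵁ O)

/-- opens of a stage as a diagram -/
def opensEt (i : P.J) (O : (P.D.obj i).left.Opens) : Over i ⥤ X.Etale where
  obj k :=
    haveI : Etale (P.D.obj k.left).hom := (P.D.obj k.left).prop
    Scheme.Etale.mk (((P.D.map k.hom).left ⁻¹ᵁ O).ι ≫ (P.D.obj k.left).hom)
  map {k l} a := MorphismProperty.Over.homMk ((P.D.map a.left).left.resLE ((P.D.map l.hom).left ⁻¹ᵁ O)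
      ((P.D.map k.hom).left ⁻¹ᵁ O) (by
        rw [← Scheme.Hom.comp_preimage]
        refine le_of_eq (congrArg (· ⁻¹ᵁ O) ?_)
        exact congrArg (fun m : P.D.obj k.left ⟶ P.D.obj i => m.left)
          ((congrArg P.D.map (CategoryTheory.Over.w a).symm).trans (P.D.map_comp _ _))))
    (by
      change Scheme.Hom.resLE _ _ _ _ ≫ (_ ≫ _) = _ ≫ _
      rw [Scheme.Hom.resLE_comp_ι_assoc]
      exact congrArg (_ ≫ ·) (MorphismProperty.Over.w (P.D.map a.left)))
  map_id k := MorphismProperty.Over.Hom.ext (by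
    change Scheme.Hom.resLE _ _ _ _ = 𝟙 _
    rw [← cancel_mono ((P.D.map k.hom).left ⁻¹ᵁ O).ι, Scheme.Hom.resLE_comp_ι, Category.id_comp]
    refine (congrArg (_ ≫ ·) ?_).trans (Category.comp_id _)
    exact congrArg (fun m : P.D.obj k.left ⟶ P.D.obj k.left => m.left) (P.D.map_id _))
  map_comp {k l m} a b := MorphismProperty.Over.Hom.ext (by
    change Scheme.Hom.resLE _ _ _ _ = Scheme.Hom.resLE _ _ _ _ ≫ Scheme.Hom.resLE _ _ _ _
    rw [← cancel_mono ((P.D.map m.hom).left ⁻¹ᵁ O).ι, Category.assoc, Scheme.Hom.resLE_comp_ι,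
      Scheme.Hom.resLE_comp_ι, Scheme.Hom.resLE_comp_ι_assoc]
    exact congrArg (_ ≫ ·) (congrArg (fun m : P.D.obj k.left ⟶ _ => m.left) (P.D.map_comp a.left b.left)))

/-- the presentation of the preimage of a quasi-compact open -/
def open' (i : P.J) (O : (P.D.obj i).left.Opens) (hO : IsCompact (O : Set (P.D.obj i).left)) :
    Pres (opObj W ((P.π.app i).left ⁻¹ᵁ O)) :=
  let S : P.J ⥤ Scheme.{u} := (P.D ⋙ ProEtS.eps X) ⋙ Scheme.ProEt.forget X ⋙ CategoryTheory.Over.forget X
  let c := (Scheme.ProEt.forget X ⋙ CategoryTheory.Over.forget X).mapCone (Cone.mk W P.π)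
  haveI : ∀ {a b : P.J} (f : a ⟶ b), IsAffineHom (S.map f) := fun {a b} f => P.aff a b f
  haveI hqc : ∀ k : Over i, CompactSpace ↥((P.opensEt i O).obj k).left := fun k => by
    refine isCompact_iff_compactSpace.1 ?_
    exact QuasiCompact.isCompact_preimage (f := (P.D.map k.hom).left) O O.2 hO
  haveI hqs : ∀ k : Over i, QuasiSeparatedSpace ↥((P.opensEt i O).obj k).left := fun k => by
    haveI := P.qsep k.left
    exact .of_isOpenEmbedding ((P.D.map k.hom).left ⁻¹ᵁ O).ι.isOpenEmbedding
  haveI haff : ∀ (k l : Over i) (a : k ⟶ l), IsAffineHom ((P.opensEt i O).map a).left := fun k l a =>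
    inferInstanceAs (IsAffineHom ((opensDiagram S i O).map a))
  { J := Over i
    D := P.opensEt i O
    π :=
      { app := fun k => MorphismProperty.Over.homMk ((opensCone S c i O).π.app k) (by
          change Scheme.Hom.resLE _ _ _ _ ≫ (_ ≫ _) = _ ≫ _
          refine (Category.assoc _ _ _).symm.trans ((congrArg (· ≫ _) (Scheme.Hom.resLE_comp_ι _ _)).trans ?_)
          exact (Category.assoc _ _ _).trans (congrArg (_ ≫ ·) (MorphismProperty.Over.w (P.π.app k.left))))
        naturality := fun k l a => MorphismProperty.Over.Hom.ext ((opensCone S c i O).π.naturality a) }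
    lim := isLimitOpensCone S c P.lim i O }

theorem open'_π (i : P.J) (O : (P.D.obj i).left.Opens) (hO : IsCompact (O : Set (P.D.obj i).left))
    (k : Over i) (h : ((P.opensEt i O).obj k).left ⟶ (P.D.obj k.left).left)
    (hh : h = ((P.D.map k.hom).left ⁻¹ᵁ O).ι) :
    ((P.open' i O hO).π.app k).left ≫ h = ((P.π.app i).left ⁻¹ᵁ O).ι ≫ (P.π.app k.left).left := by
  subst hh
  exact Scheme.Hom.resLE_comp_ι _ _

end Pres

end Groth.Agent.EpsPush13
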