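import Groth.Agent.TriCat.AcyclicObj

/-!
# Derived functors of a composite with an exact functor sending injectives to acyclic objects
-/

set_option autoImplicit false
set_option linter.style.haveILetI false

universe v₁ v₂ v₃ u₁ u₂ u₃

open CategoryTheory CategoryTheory.Limits

namespace Groth.Agent.EpsPush13

variable {A : Type u₁} [Category.{v₁} A] [Abelian A] [EnoughInjectives A]
  {B : Type u₂} [Category.{v₂} B] [Abelian B] [EnoughInjectives B]
  {D : Type u₃} [Category.{v₃} D] [Abelian D]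
  (E : A ⥤ B) [E.Additive] [PreservesFiniteLimits E] [PreservesFiniteColimits E]
  (G : B ⥤ D) [G.Additive] [PreservesFiniteLimits G]

theorem nonempty_rightDerived_comp_iso (hE : ∀ I : A, Injective I → TriCat.IsRightAcyclic G (E.obj I))
    (q : ℕ) : ∀ F : A, Nonempty ((G.rightDerived q).obj (E.obj F) ≅ ((E ⋙ G).rightDerived q).obj F) := by
  let := HasDerivedCategory.standard A
  let := HasDerivedCategory.standard B
  let := HasDerivedCategory.standard D
  haveI : PreservesFiniteLimits (E ⋙ G) := comp_preservesFiniteLimits E G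
  induction q with
  | zero =>
    intro F
    exact ⟨G.rightDerivedZeroIsoSelf.app (E.obj F) ≪≫ ((E ⋙ G).rightDerivedZeroIsoSelf.app F).symm⟩
  | succ q ih =>
    intro F
    let S := (Classical.arbitrary (InjectivePresentation F)).shortComplex
    have hS : S.ShortExact := InjectivePresentation.shortExact_shortComplex _
    haveI : Injective S.X₂ := (Classical.arbitrary (InjectivePresentation F)).injective
    have hSE : (S.map E).ShortExact := hS.map_of_exact E
    obtain ⟨δ₁, a₁, b₁, c₁, -, e₁, f₁⟩ := TriCat.exists_rightDerived_ses G hSE q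
    obtain ⟨δ₂, a₂, b₂, c₂, -, e₂, f₂⟩ := TriCat.exists_rightDerived_ses (E ⋙ G) hS q
    haveI : Epi δ₁ := f₁.epi_f ((hE S.X₂ inferInstance (q + 1) q.succ_pos).eq_of_tgt _ _)
    haveI : Epi δ₂ := f₂.epi_f (((E ⋙ G).isZero_rightDerived_obj_injective_succ q S.X₂).eq_of_tgt _ _)
    cases q with
    | zero =>
      let u : G.rightDerived 0 ≅ G := G.rightDerivedZeroIsoSelf
      let v : (E ⋙ G).rightDerived 0 ≅ E ⋙ G := (E ⋙ G).rightDerivedZeroIsoSelf
      let w₂ : (G.rightDerived 0).obj (E.obj S.X₂) ≅ ((E ⋙ G).rightDerived 0).obj S.X₂ :=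
        u.app _ ≪≫ (v.app _).symm
      let w₃ : (G.rightDerived 0).obj (E.obj S.X₃) ≅ ((E ⋙ G).rightDerived 0).obj S.X₃ :=
        u.app _ ≪≫ (v.app _).symm
      have hw : (G.rightDerived 0).map (S.map E).g ≫ w₃.hom = w₂.hom ≫ ((E ⋙ G).rightDerived 0).map S.g := by
        simp only [w₂, w₃, Iso.trans_hom, Iso.app_hom, Iso.symm_hom, Iso.app_inv, Category.assoc]
        have h1 : (G.rightDerived 0).map (S.map E).g ≫ u.hom.app (E.obj S.X₃) =
            u.hom.app (E.obj S.X₂) ≫ G.map (E.map S.g) := u.hom.naturality (E.map S.g)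
        refine (Category.assoc _ _ _).symm.trans ((congrArg (· ≫ v.inv.app S.X₃) h1).trans ((Category.assoc _ _ _).trans ?_))
        exact congrArg (_ ≫ ·) (v.inv.naturality S.g)
      exact ⟨IsColimit.coconePointUniqueUpToIso e₁.gIsCokernel (cokernelIsCokernel _) ≪≫
        cokernel.mapIso _ _ w₂ w₃ hw ≪≫
        IsColimit.coconePointUniqueUpToIso (cokernelIsCokernel _) e₂.gIsCokernel⟩
    | succ p =>
      haveI : Mono δ₁ := e₁.mono_g ((hE S.X₂ inferInstance (p + 1) p.succ_pos).eq_of_src _ _)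
      haveI : Mono δ₂ := e₂.mono_g (((E ⋙ G).isZero_rightDerived_obj_injective_succ p S.X₂).eq_of_src _ _)
      haveI : IsIso δ₁ := isIso_of_mono_of_epi δ₁
      haveI : IsIso δ₂ := isIso_of_mono_of_epi δ₂
      exact ⟨(asIso δ₁).symm ≪≫ (ih S.X₃).some ≪≫ asIso δ₂⟩

end Groth.Agent.EpsPush13
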